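import Groth.Agent.Lib.CplDomain.GRing
import Groth.Agent.Lib.AdicSmooth.RegularIff
import Groth.Agent.S4573

/-!
Formal smoothness of local rings of formal fibres.
-/

set_option autoImplicit false
set_option linter.style.haveILetI false

universe u

open IsLocalRing TensorProduct

namespace Groth.Agent.FormalFib3

theorem regular_tensor_atPrime {R S : Type u} [CommRing R] [CommRing S] [Algebra R S] (K' : Type u) [CommRing K']
    [Algebra R K'] (q : Ideal S) [q.IsPrime] [IsRegularRing (K' ⊗[R] S)] :
    IsRegularRing (K' ⊗[R] Localization.AtPrime q) := by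
  let f : K' ⊗[R] S →ₐ[K'] K' ⊗[R] Localization.AtPrime q :=
    Algebra.TensorProduct.map (AlgHom.id K' K') (IsScalarTower.toAlgHom R S (Localization.AtPrime q))
  letI : Algebra (K' ⊗[R] S) (K' ⊗[R] Localization.AtPrime q) := f.toRingHom.toAlgebra
  haveI : IsScalarTower K' (K' ⊗[R] S) (K' ⊗[R] Localization.AtPrime q) := .of_algebraMap_eq fun x => (f.commutes x).symm
  haveI := IsLocalization.tensorProduct_tensorProduct_right R K' q.primeCompl (Localization.AtPrime q)
    (RingHom.ext fun x => by
      show f (1 ⊗ₜ x) = _
      simp [f])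
  exact FlatDepth.isRegularRing_of_isLocalization
    (q.primeCompl.map (Algebra.TensorProduct.includeRight (R := R) (A := K') (B := S)))

variable {R S : Type u} [CommRing R] [CommRing S] [Algebra R S] [IsNoetherianRing S]
  (K : Type u) [Field K] [Algebra R K] [IsFractionRing R K] (q : Ideal S) [q.IsPrime]
  [Algebra K (Localization.AtPrime q)] [IsScalarTower R K (Localization.AtPrime q)]

theorem regular_base_change (K' : Type u) [CommRing K'] [Algebra K K'] [Algebra R K'] [IsScalarTower R K K']
    (h : IsRegularRing (K' ⊗[R] S)) : IsRegularRing (K' ⊗[K] Localization.AtPrime q) := by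
  haveI := h
  haveI := regular_tensor_atPrime K' (R := R) q
  haveI := IsLocalization.tensorProduct_compatibleSMul (nonZeroDivisors R) K K' (Localization.AtPrime q)
  exact @IsRegularRing.of_ringEquiv _ _ _ _
    (Algebra.TensorProduct.equivOfCompatibleSMul R K K' K' (Localization.AtPrime q)).symm.toRingEquiv
    ‹IsRegularRing (K' ⊗[R] Localization.AtPrime q)›

theorem isRegularLocalRing_atPrime (h : IsRegularRing (K ⊗[R] S)) : IsRegularLocalRing (Localization.AtPrime q) := by
  haveI := regular_base_change K q K h
  haveI : IsRegularRing (Localization.AtPrime q) :=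
    IsRegularRing.of_ringEquiv (Algebra.TensorProduct.lid K (Localization.AtPrime q)).toRingEquiv
  exact IsRegularLocalRing.of_isRegularRing_of_isLocalRing _

theorem isAdicFormallySmooth_atPrime
    (h : ∀ (K' : Type u) [Field K'] [Algebra K K'] [Algebra R K'] [IsScalarTower R K K'], Module.Finite K K' →
      IsRegularRing (K' ⊗[R] S)) :
    CAlgX.IsAdicFormallySmooth K (Localization.AtPrime q) (maximalIdeal (Localization.AtPrime q)) := by
  haveI : IsNoetherianRing (Localization.AtPrime q) := IsLocalization.isNoetherianRing q.primeCompl _ inferInstance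
  obtain ⟨e, _⟩ := ExpChar.exists K
  refine (Groth.Agent.S4573.result e).mpr fun K' _ _ hfin _ => ?_
  letI : Algebra R K' := ((algebraMap K K').comp (algebraMap R K)).toAlgebra
  haveI : IsScalarTower R K K' := .of_algebraMap_eq fun _ => rfl
  exact regular_base_change K q K' (h K' hfin)

end Groth.Agent.FormalFib3
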